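import Groth.Agent.Lib.SkExt.Basic
import Mathlib.RingTheory.Ideal.Height

/-!
# Supports and Serre's conditions: localised modules, linear equivalences
-/

set_option autoImplicit false
set_option linter.style.haveILetI false

universe u

namespace GrothLib.SkExt

variable {R : Type u} [CommRing R] {M : Type u} [AddCommGroup M] [Module R M]

/-- A module supported everywhere stays so after localising. -/
theorem supportDim_localized_eq_height (hM : Module.support R M = Set.univ) (p : Ideal R) [p.IsPrime] :
    Module.supportDim (Localization.AtPrime p) (LocalizedModule p.primeCompl M) = p.height := by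
  let Rp := Localization.AtPrime p
  let Mp := LocalizedModule p.primeCompl M
  have hsupp : Module.support Rp Mp = Set.univ := by
    refine Set.eq_univ_iff_forall.2 fun Q => Module.mem_support_iff.2 ?_
    let T := Localization.AtPrime Q.asIdeal
    let q := Q.asIdeal.comap (algebraMap R Rp)
    let MQ := LocalizedModule Q.asIdeal.primeCompl Mp
    haveI : IsLocalization.AtPrime T q :=
      IsLocalization.isLocalization_isLocalization_atPrime_isLocalization p.primeCompl T Q.asIdeal
    haveI : IsScalarTower R T MQ := IsScalarTower.of_algebraMap_smul fun r x => by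
      rw [IsScalarTower.algebraMap_apply R Rp T, algebraMap_smul, algebraMap_smul]
    let f : M →ₗ[R] MQ :=
      (LocalizedModule.mkLinearMap Q.asIdeal.primeCompl Mp).restrictScalars R ∘ₗ LocalizedModule.mkLinearMap p.primeCompl M
    haveI : IsLocalizedModule q.primeCompl f := by
      refine (isLocalizedModule_iff_isBaseChange q.primeCompl T f).2 ?_
      exact (IsLocalizedModule.isBaseChange p.primeCompl Rp _).comp (IsLocalizedModule.isBaseChange Q.asIdeal.primeCompl T _)
    haveI : Nontrivial (LocalizedModule q.primeCompl M) :=
      Module.mem_support_iff.1 (show (⟨q, inferInstance⟩ : PrimeSpectrum R) ∈ Module.support R M from hM ▸ Set.mem_univ _)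
    exact (IsLocalizedModule.iso q.primeCompl f).toEquiv.symm.nontrivial
  rw [Module.supportDim, hsupp, Order.krullDim_eq_of_orderIso OrderIso.Set.univ]
  exact IsLocalization.AtPrime.ringKrullDim_eq_height p Rp

variable [IsNoetherianRing R] [Module.Finite R M] {N : Type u} [AddCommGroup N] [Module R N]

/-- `(S_k)` along a linear equivalence. -/
theorem hasSk_congr (e : M ≃ₗ[R] N) {k : ℕ} (h : LocCoh.HasSk k R M) : LocCoh.HasSk k R N := fun p _ => by
  haveI : Module.Finite (Localization.AtPrime p) (LocalizedModule p.primeCompl M) :=
    Module.Finite.of_isLocalizedModule p.primeCompl (LocalizedModule.mkLinearMap p.primeCompl M)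
  haveI : Module.Finite R N := Module.Finite.equiv e
  haveI : Module.Finite (Localization.AtPrime p) (LocalizedModule p.primeCompl N) :=
    Module.Finite.of_isLocalizedModule p.primeCompl (LocalizedModule.mkLinearMap p.primeCompl N)
  let eP := IsLocalizedModule.mapEquiv p.primeCompl (LocalizedModule.mkLinearMap p.primeCompl M)
    (LocalizedModule.mkLinearMap p.primeCompl N) (Localization.AtPrime p) e
  have hd : LocCoh.depth (Localization.AtPrime p) (LocalizedModule p.primeCompl M) =
      LocCoh.depth (Localization.AtPrime p) (LocalizedModule p.primeCompl N) := by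
    haveI : IsNoetherianRing (Localization.AtPrime p) :=
      IsLocalization.isNoetherianRing p.primeCompl _ inferInstance
    exact GrothLib.Depth.idealDepth_eq_of_equiv _ eP
  rw [← Module.supportDim_eq_of_equiv eP, ← hd]
  exact h p

end GrothLib.SkExt
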