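import Groth.Agent.Lib.DualRing.LocalizedEH
import Groth.Agent.Lib.DualRing.Local
import Groth.Agent.Lib.FiniteQuot.DepthDescent
import Groth.Prelude.Def_EGA4b

/-!
# Serre's conditions of a module and the supports of its Ext modules into a dualizing complex
-/

set_option autoImplicit false
set_option linter.style.haveILetI false

universe u v

open CategoryTheory IsLocalRing
attribute [local instance] HasDerivedCategory.standard

namespace GrothLib.SkExt

open GrothLib.DualRing

section Sk

variable {R : Type u} [CommRing R]

/-- The inequality of `(S_k)` at a prime. -/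
def SkCond (k : ℕ) (M : Type u) [AddCommGroup M] [Module R M] (p : Ideal R) [p.IsPrime] : Prop :=
  min (k : WithBot ℕ∞)
      (Module.supportDim (Localization.AtPrime p) (LocalizedModule p.primeCompl M)) ≤
    ((LocCoh.depth (Localization.AtPrime p) (LocalizedModule p.primeCompl M) : ℕ∞) : WithBot ℕ∞)

theorem supportDim_congr_semilinear {S : Type u} [CommRing S] {M N : Type u} [AddCommGroup M] [Module R M]
    [Module.Finite R M] [AddCommGroup N] [Module S N] [Module.Finite S N] (σ : R ≃+* S) (e : M ≃+ N)
    (he : ∀ (r : R) (x : M), e (r • x) = σ r • e x) :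
    Module.supportDim R M = Module.supportDim S N := by
  rw [Module.supportDim_eq_ringKrullDim_quotient_annihilator, Module.supportDim_eq_ringKrullDim_quotient_annihilator]
  refine ringKrullDim_eq_of_ringEquiv (Ideal.quotientEquiv _ _ σ ?_)
  ext s
  rw [show Ideal.map (σ : R →+* S) (Module.annihilator R M) = (Module.annihilator R M).comap σ.symm from
    Ideal.map_comap_of_equiv σ, Ideal.mem_comap, Module.mem_annihilator, Module.mem_annihilator]
  constructor
  · intro h x
    apply e.injective
    rw [he, σ.apply_symm_apply, h (e x), map_zero]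
  · intro h x
    obtain ⟨x, rfl⟩ := e.surjective x
    have := congrArg e (h x)
    rw [he, map_zero] at this
    exact (congrArg (· • e x) (σ.apply_symm_apply _).symm).trans this

theorem depth_congr_semilinear [IsLocalRing R] {S : Type u} [CommRing S] [IsLocalRing S] {M N : Type u}
    [AddCommGroup M] [Module R M] [AddCommGroup N] [Module S N] (σ : R ≃+* S) (e : M ≃+ N)
    (he : ∀ (r : R) (x : M), e (r • x) = σ r • e x) : LocCoh.depth R M = LocCoh.depth S N := by
  unfold LocCoh.depth
  rw [GrothLib.FiniteQuot.idealDepth_congr σ e he]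
  exact congrArg (fun I => LocCoh.idealDepth I N)
    (IsLocalRing.eq_maximalIdeal (Ideal.map_isMaximal_of_equiv σ))

variable [IsNoetherianRing R]

/-- The condition at a prime of a localisation. -/
theorem skCond_localization (k : ℕ) (M : Type u) [AddCommGroup M] [Module R M] [Module.Finite R M]
    (p : Ideal R) [p.IsPrime] (Q : Ideal (Localization.AtPrime p)) [Q.IsPrime] :
    SkCond k (LocalizedModule p.primeCompl M) Q ↔
      SkCond k M (Q.comap (algebraMap R (Localization.AtPrime p))) := by
  let Rp := Localization.AtPrime p
  let T := Localization.AtPrime Q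
  let q := Q.comap (algebraMap R Rp)
  let Rq := Localization.AtPrime q
  let Mp := LocalizedModule p.primeCompl M
  let MQ := LocalizedModule Q.primeCompl Mp
  haveI : IsNoetherianRing Rp := IsLocalization.isNoetherianRing p.primeCompl _ inferInstance
  haveI : IsNoetherianRing T := IsLocalization.isNoetherianRing Q.primeCompl _ inferInstance
  haveI : IsLocalization.AtPrime T q :=
    IsLocalization.isLocalization_isLocalization_atPrime_isLocalization p.primeCompl T Q
  haveI : Module.Finite Rp Mp := Module.Finite.of_isLocalizedModule p.primeCompl (LocalizedModule.mkLinearMap p.primeCompl M)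
  haveI : Module.Finite T MQ := Module.Finite.of_isLocalizedModule Q.primeCompl (LocalizedModule.mkLinearMap Q.primeCompl Mp)
  haveI : Module.Finite Rq (LocalizedModule q.primeCompl M) :=
    Module.Finite.of_isLocalizedModule q.primeCompl (LocalizedModule.mkLinearMap q.primeCompl M)
  haveI : IsScalarTower R T MQ := IsScalarTower.of_algebraMap_smul fun r x => by
    rw [IsScalarTower.algebraMap_apply R Rp T, algebraMap_smul, algebraMap_smul]
  let f : M →ₗ[R] MQ :=
    (LocalizedModule.mkLinearMap Q.primeCompl Mp).restrictScalars R ∘ₗ LocalizedModule.mkLinearMap p.primeCompl M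
  haveI : IsLocalizedModule q.primeCompl f := by
    refine (isLocalizedModule_iff_isBaseChange q.primeCompl T f).2 ?_
    exact (IsLocalizedModule.isBaseChange p.primeCompl Rp _).comp (IsLocalizedModule.isBaseChange Q.primeCompl T _)
  let e : LocalizedModule q.primeCompl M ≃ₗ[R] MQ := IsLocalizedModule.iso q.primeCompl f
  let σ : Rq ≃ₐ[R] T := IsLocalization.algEquiv q.primeCompl _ _
  have he : ∀ (r : Rq) (x : LocalizedModule q.primeCompl M), e (r • x) = σ r • e x := fun r x => by
    obtain ⟨a, s, rfl⟩ := IsLocalization.exists_mk'_eq q.primeCompl r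
    apply ((IsLocalization.map_units T s).smul_left_cancel).1
    have h1 : algebraMap R Rq (s : R) * IsLocalization.mk' Rq a s = algebraMap R Rq a :=
      IsLocalization.mk'_spec' _ a s
    calc algebraMap R T s • e (IsLocalization.mk' Rq a s • x)
        = (s : R) • e (IsLocalization.mk' Rq a s • x) := algebraMap_smul _ _ _
      _ = e ((s : R) • IsLocalization.mk' Rq a s • x) := (e.map_smul _ _).symm
      _ = e (a • x) := by rw [← algebraMap_smul Rq (s : R) (IsLocalization.mk' Rq a s • x), smul_smul, h1,
            algebraMap_smul]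
      _ = a • e x := e.map_smul _ _
      _ = σ (algebraMap R Rq a) • e x := by rw [σ.commutes, algebraMap_smul]
      _ = _ := by rw [← h1, map_mul, σ.commutes, mul_smul]
  unfold SkCond
  rw [← supportDim_congr_semilinear σ.toRingEquiv e.toAddEquiv he,
    ← depth_congr_semilinear σ.toRingEquiv e.toAddEquiv he]

/-- `(S_k)` at a prime means the inequality at all smaller primes. -/
theorem hasSkAt_iff (k : ℕ) (M : Type u) [AddCommGroup M] [Module R M] [Module.Finite R M]
    (p : Ideal R) [p.IsPrime] :
    EGA4.HasSkAt k R M p ↔ ∀ (q : Ideal R) [q.IsPrime], q ≤ p → SkCond k M q := by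
  constructor
  · intro h q _ hqp
    have hd : Disjoint (p.primeCompl : Set R) (q : Set R) :=
      Set.disjoint_left.2 fun x hx hx' => hx (hqp hx')
    haveI : (q.map (algebraMap R (Localization.AtPrime p))).IsPrime :=
      IsLocalization.isPrime_of_isPrime_disjoint p.primeCompl _ q inferInstance hd
    have h' := (skCond_localization k M p (q.map (algebraMap R (Localization.AtPrime p)))).1 (h _)
    have hc := IsLocalization.comap_map_of_isPrime_disjoint p.primeCompl (Localization.AtPrime p) ‹q.IsPrime› hd
    simp only [hc] at h'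
    exact h'
  · intro h Q _
    refine (skCond_localization k M p Q).2 (h _ fun x hx => ?_)
    by_contra hxp
    exact (‹Q.IsPrime›).ne_top (Ideal.eq_top_of_isUnit_mem _ hx (IsLocalization.map_units _ (⟨x, hxp⟩ : p.primeCompl)))

end Sk

section Degrees

variable {A : Type u} [CommRing A] [IsNoetherianRing A] {ω : Dual.D A} (hω : Dual.IsDualizing A ω)
  (M : Type u) [AddCommGroup M] [Module A M] [Module.Finite A M]

include hω in
/-- A minimal prime of the support lies in the support of the Ext module of its degree. -/
theorem mem_support_EH_of_minimal {r : PrimeSpectrum A} (hr : r ∈ Module.support A M)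
    (hmin : ∀ s ∈ Module.support A M, s ≤ r → s = r) :
    r ∈ Module.support A (EH ω (Dual.inD A M) (deg hω r.asIdeal)) := by
  have hfin : len r.asIdeal M ≠ ⊤ := by
    refine len_ne_top_of_minimal (Module.annihilator A M) (fun s hs hann hsr => ?_) M
      fun a ha x => Module.mem_annihilator.1 ha x
    exact congrArg PrimeSpectrum.asIdeal (hmin ⟨s, hs⟩ (Module.mem_support_iff_of_finite.2 hann) hsr)
  have h0 : len r.asIdeal M ≠ 0 := (nontrivial_localized_iff r.asIdeal M).1 (Module.mem_support_iff.1 hr)
  exact Module.mem_support_iff.2 ((nontrivial_localized_iff r.asIdeal _).2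
    (len_EH_ne_zero M ((mu_ne_zero_iff hω r.asIdeal _).2 rfl) (Or.inl (mu_ne_deg hω r.asIdeal (by omega))) hfin h0))

section Local

variable [IsLocalRing A] (hn : Dual.IsNormalized A ω)

include hω hn in
/-- A bound on the degrees over the support bounds the dimension. -/
theorem supportDim_le_of_deg (N : Type v) [AddCommGroup N] [Module A N] (n : ℕ)
    (h : ∀ p ∈ Module.support A N, (-deg hω p.asIdeal).toNat ≤ n) :
    Module.supportDim A N ≤ (n : WithBot ℕ∞) := by
  refine iSup_le fun l => ?_
  have h3 : (l.length : ℕ∞) ≤ Order.coheight l.head.1 := by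
    refine le_trans ?_ (Order.length_le_coheight (p := l.map (fun y => y.1) (fun _ _ h => h)) ?_)
    · exact le_rfl
    · exact le_rfl
  rw [coheight_eq hω, show degS hω (IsLocalRing.closedPoint A) = 0 from deg_maximal hω hn, zero_sub] at h3
  exact le_trans (WithBot.coe_le_coe.2 (Nat.cast_le.2 ((Nat.cast_le.1 h3).trans (h _ l.head.2)))) le_rfl

include hω hn in
/-- The dimension of the support dominates the degrees over it. -/
theorem le_supportDim_of_mem (N : Type v) [AddCommGroup N] [Module A N] {p : PrimeSpectrum A}
    (hp : p ∈ Module.support A N) : (((-deg hω p.asIdeal).toNat : ℕ) : WithBot ℕ∞) ≤ Module.supportDim A N := by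
  have h := coheight_eq hω p
  rw [show degS hω (IsLocalRing.closedPoint A) = 0 from deg_maximal hω hn, zero_sub] at h
  obtain ⟨l, hl, hlen⟩ := Order.exists_series_of_le_coheight (n := (-deg hω p.asIdeal).toNat) p h.ge
  let l' : LTSeries (Module.support A N) := LTSeries.mk l.length
    (fun i => ⟨l i, Module.mem_support_mono (by rw [← hl]; exact LTSeries.head_le l i) hp⟩)
    (fun i j hij => l.strictMono hij)
  rw [← hlen]
  exact le_iSup (fun (s : LTSeries (Module.support A N)) => (s.length : WithBot ℕ∞)) l'

include hω hn in
/-- The bottom degree over a local ring. -/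
theorem nontrivial_EH_neg_dim (d : ℕ) (hd : Module.supportDim A M = d) :
    Nontrivial (EH ω (Dual.inD A M) (-(d : ℤ))) := by
  obtain ⟨l, hl⟩ := Order.le_krullDim_iff.1 (show (d : WithBot ℕ∞) ≤ Order.krullDim (Module.support A M) from hd.ge)
  have hmin : ∀ s ∈ Module.support A M, s ≤ l.head.1 → s = l.head.1 := fun s hs hle => by
    by_contra hne
    have hlt : (⟨s, hs⟩ : Module.support A M) < l.head := lt_of_le_of_ne hle fun he => hne (congrArg Subtype.val he)
    have h' : ((l.cons ⟨s, hs⟩ hlt).length : WithBot ℕ∞) ≤ (d : WithBot ℕ∞) := by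
      rw [← hd]
      exact le_iSup (fun (s : LTSeries (Module.support A M)) => (s.length : WithBot ℕ∞)) _
    have : (l.cons ⟨s, hs⟩ hlt).length ≤ d := by exact_mod_cast h'
    simp only [RelSeries.cons_length] at this
    omega
  have hmem := mem_support_EH_of_minimal hω M l.head.2 hmin
  have hnt : Nontrivial (EH ω (Dual.inD A M) (deg hω l.head.1.asIdeal)) := by
    by_contra hs
    rw [not_nontrivial_iff_subsingleton] at hs
    haveI := hs
    haveI := Module.mem_support_iff.1 hmem
    exact not_subsingleton (LocalizedModule l.head.1.asIdeal.primeCompl (EH ω (Dual.inD A M) (deg hω l.head.1.asIdeal))) inferInstance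
  have h1 : -(d : ℤ) ≤ deg hω l.head.1.asIdeal := not_lt.1 fun h =>
    not_subsingleton_iff_nontrivial.2 hnt (subsingleton_EH_lt hω hn M d hd h)
  have h2 : d ≤ (-deg hω l.head.1.asIdeal).toNat := by
    have h3 : (l.length : ℕ∞) ≤ Order.coheight l.head.1 := by
      refine le_trans ?_ (Order.length_le_coheight (p := l.map (fun y => y.1) (fun _ _ h => h)) ?_)
      · exact le_rfl
      · exact le_rfl
    rw [coheight_eq hω, show degS hω (IsLocalRing.closedPoint A) = 0 from deg_maximal hω hn, zero_sub] at h3
    exact hl ▸ Nat.cast_le.1 h3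
  have h4 := deg_nonpos hω hn l.head.1.asIdeal
  rwa [show deg hω l.head.1.asIdeal = -(d : ℤ) by omega] at hnt

end Local

include hω in
/-- The degrees at a point of the support: the depth gives the top one, the dimension the bottom one. -/
theorem exists_degree_range (p : PrimeSpectrum A) (hp : p ∈ Module.support A M) :
    ∃ k d : ℕ, k ≤ d ∧
      LocCoh.depth (Localization.AtPrime p.asIdeal) (LocalizedModule p.asIdeal.primeCompl M) = k ∧
      Module.supportDim (Localization.AtPrime p.asIdeal) (LocalizedModule p.asIdeal.primeCompl M) = d ∧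
      p ∈ Module.support A (EH ω (Dual.inD A M) (deg hω p.asIdeal - k)) ∧
      p ∈ Module.support A (EH ω (Dual.inD A M) (deg hω p.asIdeal - d)) ∧
      ∀ i, p ∈ Module.support A (EH ω (Dual.inD A M) i) → deg hω p.asIdeal - d ≤ i ∧ i ≤ deg hω p.asIdeal - k := by
  obtain ⟨k, hk, hmem, hle, -⟩ := exists_degrees hω p M hp
  let B := Localization.AtPrime p.asIdeal
  let N := LocalizedModule p.asIdeal.primeCompl M
  haveI : IsNoetherianRing B := IsLocalization.isNoetherianRing p.asIdeal.primeCompl _ inferInstance
  haveI : Nontrivial N := Module.mem_support_iff.1 hp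
  haveI : Module.Finite B N := Module.Finite.of_isLocalizedModule p.asIdeal.primeCompl
    (LocalizedModule.mkLinearMap p.asIdeal.primeCompl M)
  obtain ⟨ω', hω', hn', hiff⟩ := exists_localized_EH hω p M
  obtain ⟨d, hd⟩ : ∃ d : ℕ, Module.supportDim B N = d := by
    obtain ⟨x, hx⟩ := WithBot.ne_bot_iff_exists.1
      ((Module.supportDim_ne_bot_iff_nontrivial B N).2 (‹Nontrivial N›) : Module.supportDim B N ≠ ⊥)
    obtain ⟨d, rfl⟩ := ENat.ne_top_iff_exists.1 (show x ≠ ⊤ from fun h => by
      have h3 := Module.supportDim_le_ringKrullDim B N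
      rw [← hx, h] at h3
      exact absurd (lt_of_le_of_lt h3 (ringKrullDim_lt_top (A := B) hω')) (lt_irrefl _))
    exact ⟨d, hx.symm⟩
  have hbot : p ∈ Module.support A (EH ω (Dual.inD A M) (deg hω p.asIdeal - d)) := by
    rw [show deg hω p.asIdeal - (d : ℤ) = deg hω p.asIdeal + -(d : ℤ) by omega, ← hiff]
    exact nontrivial_EH_neg_dim hω' N hn' d hd
  have hlow : ∀ i, p ∈ Module.support A (EH ω (Dual.inD A M) i) → deg hω p.asIdeal - d ≤ i := fun i hi => by
    by_contra hlt
    have hnt := (hiff (i - deg hω p.asIdeal)).2 (by rwa [show deg hω p.asIdeal + (i - deg hω p.asIdeal) = i by omega])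
    exact not_subsingleton_iff_nontrivial.2 hnt (subsingleton_EH_lt hω' hn' N d hd (by omega))
  have hkd := hle _ hbot
  exact ⟨k, d, by omega, hk, hd, hmem, hbot, fun i hi => ⟨hlow i hi, hle i hi⟩⟩

include hω in
theorem mem_support_of_mem_support_EH {p : PrimeSpectrum A} {i : ℤ}
    (hp : p ∈ Module.support A (EH ω (Dual.inD A M) i)) : p ∈ Module.support A M := by
  obtain ⟨r, hr, hrp, hann, -, -⟩ := exists_quotient_bounds hω M ((nontrivial_localized_iff p.asIdeal _).1
    (Module.mem_support_iff.1 hp))
  exact Module.mem_support_iff_of_finite.2 fun a ha => hrp (hann a (Module.mem_annihilator.1 ha))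

include hω in
/-- The inequality of `(S_k)` at a point through the degrees. -/
theorem skCond_iff (k : ℕ) (p : PrimeSpectrum A) :
    SkCond k M p.asIdeal ↔ ∀ i j : ℤ, j < i → p ∈ Module.support A (EH ω (Dual.inD A M) i) →
      p ∈ Module.support A (EH ω (Dual.inD A M) j) →
        (((k : ℤ) + i - j).toNat : WithBot ℕ∞) ≤
          Module.supportDim (Localization.AtPrime p.asIdeal) (LocalizedModule p.asIdeal.primeCompl M) := by
  unfold SkCond
  by_cases hp : p ∈ Module.support A M
  · obtain ⟨κ, d, hκd, hκ, hd, hmemk, hmemd, hrange⟩ := exists_degree_range hω M p hp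
    rw [hκ, hd]
    constructor
    · intro h i j hji hi hj
      have h' : min k d ≤ κ := by
        rcases le_total k d with hh | hh
        · rw [min_eq_left (by exact_mod_cast hh)] at h
          exact (min_le_left _ _).trans (by exact_mod_cast h)
        · rw [min_eq_right (by exact_mod_cast hh)] at h
          exact (min_le_right _ _).trans (by exact_mod_cast h)
      have := (hrange i hi).2
      have := (hrange j hj).1
      exact_mod_cast (show ((k : ℤ) + i - j).toNat ≤ d by omega)
    · intro h
      rcases hκd.eq_or_lt with rfl | hlt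
      · exact min_le_right _ _
      · have h' : ((k : ℤ) + (deg hω p.asIdeal - κ) - (deg hω p.asIdeal - d)).toNat ≤ d := by
          exact_mod_cast h _ _ (by omega) hmemk hmemd
        exact (min_le_left _ _).trans (show (k : WithBot ℕ∞) ≤ _ from by exact_mod_cast (show k ≤ κ by omega))
  · refine iff_of_true ?_ fun i j _ hi => absurd (mem_support_of_mem_support_EH hω M hi) hp
    rw [(Module.supportDim_eq_bot_iff_subsingleton _ _).2 (Module.notMem_support_iff.1 hp)]
    exact (min_le_right _ _).trans bot_le

end Degrees

end GrothLib.SkExt
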