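import Groth.Agent.Lib.SkExt.Basic

/-!
# Serre's conditions through degrees: equidimensional modules, and finite type algebras over fields
-/

set_option autoImplicit false
set_option linter.style.haveILetI false

universe u v

open CategoryTheory
attribute [local instance] HasDerivedCategory.standard

namespace GrothLib.SkExt

open GrothLib.DualRing

variable {A : Type u} [CommRing A] [IsNoetherianRing A] {ω : Dual.D A} (hω : Dual.IsDualizing A ω)

include hω in
/-- `(S_k)` through degrees, when every component of the support has degree `-δ`. -/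
theorem hasSk_iff_deg (M : Type u) [AddCommGroup M] [Module A M] [Module.Finite A M] (δ : ℤ)
    (hmin : ∀ (r : Ideal A) [r.IsPrime], r ∈ (Module.annihilator A M).minimalPrimes → deg hω r = -δ) (k : ℕ) :
    LocCoh.HasSk k A M ↔ ∀ j : ℤ, j ≠ -δ → ∀ p ∈ Module.support A (EH ω (Dual.inD A M) j),
      j + k ≤ deg hω p.asIdeal := by
  -- the bottom degree is the same at every point of the support
  have hbot : ∀ p : PrimeSpectrum A, p ∈ Module.support A M →
      p ∈ Module.support A (EH ω (Dual.inD A M) (-δ)) ∧
        ∀ i, p ∈ Module.support A (EH ω (Dual.inD A M) i) → -δ ≤ i := by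
    intro p hp
    obtain ⟨r, hr, hrp⟩ := Ideal.exists_minimalPrimes_le (Module.mem_support_iff_of_finite.1 hp)
    haveI := hr.1.1
    have hdeg := hmin r hr
    refine ⟨?_, fun i hi => ?_⟩
    · have hmem := mem_support_EH_of_minimal hω M (r := ⟨r, hr.1.1⟩) (Module.mem_support_iff_of_finite.2 hr.1.2)
        fun s hs hle => PrimeSpectrum.ext (le_antisymm hle (hr.2 ⟨s.2, Module.mem_support_iff_of_finite.1 hs⟩ hle))
      rw [← hdeg]
      exact Module.mem_support_mono (show (⟨r, hr.1.1⟩ : PrimeSpectrum A) ≤ p from hrp) hmem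
    obtain ⟨s, hs, hsp, hann, h1, -⟩ := exists_quotient_bounds hω M
      ((nontrivial_localized_iff p.asIdeal _).1 (Module.mem_support_iff.1 hi))
    obtain ⟨r', hr', hrs⟩ := Ideal.exists_minimalPrimes_le (J := s)
      (show Module.annihilator A M ≤ s from fun a ha => hann a (Module.mem_annihilator.1 ha))
    haveI := hr'.1.1
    have h2 := hmin r' hr'
    have h3 := (degS_strictMono hω).monotone (show (⟨r', inferInstance⟩ : PrimeSpectrum A) ≤ ⟨s, hs⟩ from hrs)
    change deg hω r' ≤ deg hω s at h3
    omega
  constructor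
  · intro hsk j hj p hp
    have hpM := mem_support_of_mem_support_EH hω M hp
    obtain ⟨κ, d, hκd, hκ, hdim, -, hmemd, hrange⟩ := exists_degree_range hω M p hpM
    have hb : deg hω p.asIdeal - d = -δ :=
      le_antisymm (hrange _ (hbot p hpM).1).1 ((hbot p hpM).2 _ hmemd)
    have h := hsk p.asIdeal
    rw [hκ, hdim] at h
    have h1 := (hrange j hp).2
    have h2 := (hbot p hpM).2 j hp
    rcases le_total k d with hh | hh
    · rw [min_eq_left (by exact_mod_cast hh)] at h
      have : k ≤ κ := by exact_mod_cast h
      omega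
    · rw [min_eq_right (by exact_mod_cast hh)] at h
      have : d ≤ κ := by exact_mod_cast h
      omega
  · intro h p₀ hp₀
    suffices key : ∀ p : PrimeSpectrum A, SkCond k M p.asIdeal from key ⟨p₀, hp₀⟩
    intro p
    unfold SkCond
    by_cases hp : p ∈ Module.support A M
    · obtain ⟨κ, d, hκd, hκ, hdim, hmemk, hmemd, hrange⟩ := exists_degree_range hω M p hp
      have hb : deg hω p.asIdeal - d = -δ :=
        le_antisymm (hrange _ (hbot _ hp).1).1 ((hbot _ hp).2 _ hmemd)
      rw [hκ, hdim]
      rcases hκd.eq_or_lt with rfl | hlt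
      · exact min_le_right _ _
      refine (min_le_left _ _).trans ?_
      suffices k ≤ κ by exact_mod_cast this
      have hne : deg hω p.asIdeal - (κ : ℤ) ≠ -δ := by omega
      have := h _ hne p hmemk
      omega
    · rw [(Module.supportDim_eq_bot_iff_subsingleton _ _).2 (Module.notMem_support_iff.1 hp)]
      exact (min_le_right _ _).trans bot_le

section Global

variable (hmax : ∀ (m : Ideal A) [m.IsMaximal], deg hω m = 0)

include hω hmax in
theorem deg_nonpos_of_max (p : PrimeSpectrum A) : degS hω p ≤ 0 := by
  obtain ⟨m, hm, hpm⟩ := p.asIdeal.exists_le_maximal p.2.ne_top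
  exact ((degS_strictMono hω).monotone (show p ≤ ⟨m, hm.isPrime⟩ from hpm)).trans_eq
    (@hmax m hm)

include hω hmax in
/-- Coheights when the degree vanishes at every maximal ideal. -/
theorem coheight_eq_of_max (x : PrimeSpectrum A) :
    (Order.coheight x : ℕ∞) = ((-degS hω x).toNat : ℕ) := by
  generalize hn : (-degS hω x).toNat = n
  induction n using Nat.strong_induction_on generalizing x with
  | _ n ih =>
    refine le_antisymm (Order.coheight_le_coe_iff.2 fun y hy => ?_) ?_
    · have h1 := degS_strictMono hω hy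
      have h2 := deg_nonpos_of_max hω hmax y
      rw [ih _ (by omega) y rfl]
      exact Nat.cast_lt.2 (by omega)
    · obtain ⟨m, hm, hxm⟩ := x.asIdeal.exists_le_maximal x.2.ne_top
      rcases (show x ≤ ⟨m, hm.isPrime⟩ from hxm).eq_or_lt with he | hlt
      · subst he
        have : degS hω ⟨m, hm.isPrime⟩ = 0 := @hmax m hm
        rw [this] at hn
        simp [← hn]
      · obtain ⟨z, hxz, hz⟩ := exists_covBy_le hω hlt
        have h1 := degS_covBy hω hxz
        have h2 := deg_nonpos_of_max hω hmax z
        have h3 := Order.coheight_add_one_le hxz.1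
        rw [ih _ (by omega) z rfl] at h3
        refine le_trans ?_ h3
        rw [show n = (-degS hω z).toNat + 1 by omega, Nat.cast_add, Nat.cast_one]

include hω hmax in
theorem supportDim_le_of_max (N : Type v) [AddCommGroup N] [Module A N] (n : ℕ)
    (h : ∀ p ∈ Module.support A N, (-deg hω p.asIdeal).toNat ≤ n) :
    Module.supportDim A N ≤ (n : WithBot ℕ∞) := by
  refine iSup_le fun l => ?_
  have h3 : (l.length : ℕ∞) ≤ Order.coheight l.head.1 := by
    refine le_trans ?_ (Order.length_le_coheight (p := l.map (fun y => y.1) (fun _ _ h => h)) ?_)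
    · exact le_rfl
    · exact le_rfl
  rw [coheight_eq_of_max hω hmax] at h3
  exact le_trans (WithBot.coe_le_coe.2 (Nat.cast_le.2 ((Nat.cast_le.1 h3).trans (h _ l.head.2)))) le_rfl

include hω hmax in
theorem le_supportDim_of_max (N : Type v) [AddCommGroup N] [Module A N] {p : PrimeSpectrum A}
    (hp : p ∈ Module.support A N) : (((-deg hω p.asIdeal).toNat : ℕ) : WithBot ℕ∞) ≤ Module.supportDim A N := by
  obtain ⟨l, hl, hlen⟩ := Order.exists_series_of_le_coheight (n := (-deg hω p.asIdeal).toNat) p
    (coheight_eq_of_max hω hmax p).ge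
  let l' : LTSeries (Module.support A N) := LTSeries.mk l.length
    (fun i => ⟨l i, Module.mem_support_mono (by rw [← hl]; exact LTSeries.head_le l i) hp⟩)
    (fun i j hij => l.strictMono hij)
  rw [← hlen]
  exact le_iSup (fun (s : LTSeries (Module.support A N)) => (s.length : WithBot ℕ∞)) l'

include hω hmax in
theorem ringKrullDim_quotient_of_max (p : Ideal A) [p.IsPrime] :
    ringKrullDim (A ⧸ p) = (((-deg hω p).toNat : ℕ) : WithBot ℕ∞) := by
  have h : PrimeSpectrum.zeroLocus (p : Set A) = Set.Ici (⟨p, inferInstance⟩ : PrimeSpectrum A) :=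
    Set.ext fun y => Iff.rfl
  rw [ringKrullDim_quotient, h, ← Order.coheight_eq_krullDim_Ici, coheight_eq_of_max hω hmax]
  rfl

end Global

end GrothLib.SkExt
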