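import Groth.Agent.Lib.DualRing.Shift
import Groth.Agent.Lib.DualRing.Devissage
import Groth.Agent.Lib.DualRing.Bottom

/-!
# The truncation of a dualizing complex above its lowest cohomology
-/

set_option autoImplicit false
set_option linter.style.haveILetI false
universe u

open CategoryTheory CategoryTheory.Limits Pretriangulated

attribute [local instance] HasDerivedCategory.standard

namespace GrothLib.SkExt

open GrothLib.DualRing

variable {A : Type u} [CommRing A]

/-- The truncation triangle with the cohomology of the third object. -/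
theorem exists_bottom_triangle_hd (K : Dual.D A) (j : ℤ) (hv : ∀ i, i < j → Subsingleton (Dual.HD A K i)) :
    ∃ T : Triangle (Dual.D A), T ∈ (distTriang (Dual.D A)) ∧ T.obj₂ = K ∧
      Nonempty (T.obj₁ ≅ (Dual.inD A (Dual.HD A K j))⟦-j⟧) ∧ T.obj₁.IsLE j ∧ T.obj₃.IsGE (j + 1) ∧
      ∀ i, j < i → Nonempty (Dual.HD A T.obj₃ i ≃ₗ[A] Dual.HD A K i) := by
  let H := fun i => DerivedCategory.homologyFunctor (ModuleCat.{u} A) i
  let t : Triangulated.TStructure (Dual.D A) := DerivedCategory.TStructure.t
  have hT := t.triangleLTGE_distinguished (j + 1) K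
  let U := (t.truncLT (j + 1)).obj K
  have hle : U.IsLE j := by
    rw [DerivedCategory.isLE_iff]
    exact fun i hi => GrothLib.DerTrunc.isZero_homology_truncLT K (j + 1) i (by omega)
  refine ⟨_, hT, rfl, ?_, hle, ?_, fun i hi => ?_⟩
  · haveI : U.IsGE j := by
      rw [DerivedCategory.isGE_iff]
      intro i hi
      haveI := GrothLib.DerTrunc.isIso_homology_truncLTι K (j + 1) i (by omega)
      exact ((GrothLib.DR.subsingleton_iff_isZero _).1 (hv i hi)).of_iso
        (asIso ((H i).map ((t.truncLTι (j + 1)).app K)))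
    haveI := hle
    obtain ⟨M, ⟨e⟩⟩ := DerivedCategory.exists_iso_singleFunctor_obj_of_isGE_of_isLE U j
    haveI := GrothLib.DerTrunc.isIso_homology_truncLTι K (j + 1) j (by omega)
    let e' : M ≅ (H j).obj K :=
      ((DerivedCategory.singleFunctorCompHomologyFunctorIso (ModuleCat.{u} A) j).app M).symm ≪≫
        (H j).mapIso e.symm ≪≫ asIso ((H j).map ((t.truncLTι (j + 1)).app K))
    exact ⟨e ≪≫ (DerivedCategory.singleFunctor (ModuleCat.{u} A) j).mapIso e' ≪≫ GrothLib.DR.singleIsoShift j _⟩
  · rw [DerivedCategory.isGE_iff]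
    exact fun i hi => GrothLib.DerTrunc.isZero_homology_truncGE K (j + 1) i hi
  · haveI := GrothLib.DerTrunc.isIso_homology_truncGEπ K (j + 1) i (by omega)
    exact ⟨(asIso ((H i).map ((t.truncGEπ (j + 1)).app K))).symm.toLinearEquiv⟩

/-- Vanishing of the maps out of a bounded object from the vanishing for its cohomology modules. -/
theorem subsingleton_EH_of_cohomology {ω : Dual.D A} (a : ℤ) (n : ℕ) : ∀ (K : Dual.D A) (b : ℤ), b + 1 ≤ a + n →
    (∀ j, (j < a ∨ b < j) → Subsingleton (Dual.HD A K j)) →
    ∀ i, (∀ j, a ≤ j → j ≤ b → Subsingleton (EH ω (Dual.inD A (Dual.HD A K j)) (i + j))) →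
      Subsingleton (EH ω K i) := by
  induction n with
  | zero =>
    intro K b hb hK i _
    have hZ : IsZero K := DR.isZero_of_homology K fun j =>
      (DR.subsingleton_iff_isZero _).1 (hK j (by omega))
    exact ⟨fun f g => hZ.eq_of_src f g⟩
  | succ n ih =>
    intro K b hb hK i hi
    by_cases h : a ≤ b
    swap
    · exact ih K b (by omega) hK i hi
    obtain ⟨T, hT, rfl, ⟨e⟩, hlt, hge⟩ := exists_top_triangle K b fun j hj => hK j (Or.inr hj)
    have h1 : Subsingleton (EH ω T.obj₁ i) := by
      refine ih T.obj₁ (b - 1) (by omega) (fun j hj => ?_) i fun j h1 h2 => ?_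
      · by_cases hj' : j < b
        · haveI := hK j (by omega); exact (hlt j hj').some.toEquiv.subsingleton
        · exact hge j (not_lt.1 hj')
      · let e' : Dual.inD A (Dual.HD A T.obj₁ j) ≅ Dual.inD A (Dual.HD A T.obj₂ j) :=
          (DerivedCategory.singleFunctor (ModuleCat.{u} A) 0).mapIso (hlt j (by omega)).some.toModuleIso
        haveI := hi j h1 (by omega)
        exact (congrLeft e' (ω⟦i + j⟧)).toEquiv.subsingleton
    have h3 : Subsingleton (EH ω T.obj₃ i) := by
      haveI := hi b h le_rfl
      exact ((congrLeft e (ω⟦i⟧)).trans (shiftLeft ω _ (-b) i (i + b) (by omega))).toEquiv.subsingleton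
    refine ⟨fun f g => sub_eq_zero.1 ?_⟩
    obtain ⟨β, hβ⟩ := Triangle.yoneda_exact₂ T hT (f - g) (h1.elim _ _)
    rw [hβ, h3.elim β 0, comp_zero]

end GrothLib.SkExt
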