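import Groth.Agent.Lib.SkExt.Basic
import Groth.Agent.Lib.CanonMod.CodimOneConn

/-!
# A local ring satisfying `(S₂)` with a dualizing complex is equidimensional
-/

set_option autoImplicit false
set_option linter.style.haveILetI false

universe u

open CategoryTheory
attribute [local instance] HasDerivedCategory.standard

namespace GrothLib.SkExt

open GrothLib.DualRing

variable {A : Type u} [CommRing A] [IsNoetherianRing A] [IsLocalRing A] {ω : Dual.D A} (hω : Dual.IsDualizing A ω)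

theorem exists_le_of_iInf_ker_le (Q : Set (Ideal A)) (hQ : Q ⊆ minimalPrimes A) (a : Ideal A)
    (ha : ∀ r : A, r ∈ a ↔ ∀ p ∈ Q, ∃ s : A, s ∉ p ∧ s * r = 0) (P : Ideal A) [P.IsPrime] (h : a ≤ P) :
    ∃ p ∈ Q, p ≤ P := by
  classical
  have hfin : Q.Finite := (minimalPrimes.finite_of_isNoetherianRing A).subset hQ
  by_contra hcon
  push Not at hcon
  have hex : ∀ p ∈ Q, ∃ t : A, t ∉ P ∧ ∃ s : A, s ∉ p ∧ s * t = 0 := by
    intro p hp
    haveI := (hQ hp).1.1
    obtain ⟨t, htp, htP⟩ := SetLike.not_le_iff_exists.1 (hcon p hp)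
    have hnil : IsNilpotent (algebraMap A (Localization.AtPrime p) t) := by
      haveI : Ring.KrullDimLE 0 (Localization.AtPrime p) := Ring.krullDimLE_iff.2 (by
        rw [IsLocalization.AtPrime.ringKrullDim_eq_height p, Ideal.height_eq_zero_iff.2 (hQ hp)]
        simp)
      rw [Ring.KrullDimLE.isNilpotent_iff_mem_maximalIdeal]
      exact (IsLocalization.AtPrime.to_map_mem_maximal_iff (Localization.AtPrime p) p t).2 htp
    obtain ⟨k, hk⟩ := hnil
    rw [← map_pow, IsLocalization.map_eq_zero_iff p.primeCompl] at hk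
    obtain ⟨s, hs⟩ := hk
    exact ⟨t ^ k, fun h => htP (Ideal.IsPrime.mem_of_pow_mem ‹_› k h), s.1, s.2, hs⟩
  choose t ht s hs hst using hex
  have hmem : (∏ p ∈ hfin.toFinset.attach, t p.1 (hfin.mem_toFinset.1 p.2)) ∈ a := by
    refine (ha _).2 fun p hp => ⟨s p hp, hs p hp, ?_⟩
    obtain ⟨d, hd⟩ := Finset.dvd_prod_of_mem (fun p : {x // x ∈ hfin.toFinset} => t p.1 (hfin.mem_toFinset.1 p.2))
      (Finset.mem_attach _ ⟨p, hfin.mem_toFinset.2 hp⟩)
    rw [hd, ← mul_assoc, hst p hp, zero_mul]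
  obtain ⟨p, -, hp⟩ := (Ideal.IsPrime.prod_mem_iff (p := P)).1 (h hmem)
  exact ht _ _ hp

include hω in
/-- All minimal primes have the same degree. -/
theorem deg_minimal_eq_of_hasSk_two (hS : LocCoh.HasSk 2 A A) (r₁ r₂ : Ideal A) [r₁.IsPrime] [r₂.IsPrime]
    (h₁ : r₁ ∈ minimalPrimes A) (h₂ : r₂ ∈ minimalPrimes A) : deg hω r₁ = deg hω r₂ := by
  classical
  by_contra hne
  let P1 : Set (Ideal A) := {p | ∃ hp : p ∈ minimalPrimes A, haveI := hp.1.1; deg hω p = deg hω r₁}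
  let P2 : Set (Ideal A) := minimalPrimes A \ P1
  have hs1 : P1 ⊆ minimalPrimes A := fun p hp => hp.1
  have hr1 : r₁ ∈ P1 := ⟨h₁, rfl⟩
  have hr2 : r₂ ∈ P2 := ⟨h₂, fun ⟨_, h⟩ => hne h.symm⟩
  let mk : Set (Ideal A) → Ideal A := fun Q =>
    { carrier := {r | ∀ p ∈ Q ∩ minimalPrimes A, ∃ s : A, s ∉ p ∧ s * r = 0}
      add_mem' := fun {x y} hx hy p hp => by
        obtain ⟨s, hs, hsx⟩ := hx p hp
        obtain ⟨t, ht, hty⟩ := hy p hp
        refine ⟨s * t, fun h => ((hp.2.1.1.mem_or_mem h).elim hs ht), ?_⟩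
        rw [mul_add, mul_comm s t, mul_assoc t s x, hsx, mul_comm t s, mul_assoc, hty, mul_zero, mul_zero, add_zero]
      zero_mem' := fun p hp => ⟨1, fun h => hp.2.1.1.ne_top ((Ideal.eq_top_iff_one p).2 h), mul_zero _⟩
      smul_mem' := fun c x hx p hp => by
        obtain ⟨s, hs, hsx⟩ := hx p hp
        exact ⟨s, hs, by rw [smul_eq_mul, mul_left_comm, hsx, mul_zero]⟩ }
  have hmk : ∀ Q ⊆ minimalPrimes A, ∀ r : A, r ∈ mk Q ↔ ∀ p ∈ Q, ∃ s : A, s ∉ p ∧ s * r = 0 := fun Q hQ r =>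
    ⟨fun h p hp => h p ⟨hp, hQ hp⟩, fun h p hp => h p hp.1⟩
  have hle : ∀ Q : Set (Ideal A), ∀ p ∈ Q, p ∈ minimalPrimes A → mk Q ≤ IsLocalRing.maximalIdeal A := by
    intro Q p hp hpm r hr
    obtain ⟨s, hs, hsr⟩ := hr p ⟨hp, hpm⟩
    haveI := hpm.1.1
    exact IsLocalRing.le_maximalIdeal (hpm.1.1.ne_top)
      ((hpm.1.1.mem_or_mem (show s * r ∈ p by rw [hsr]; exact zero_mem p)).resolve_left hs)
  obtain ⟨P, hP, -⟩ := Ideal.exists_minimalPrimes_le (sup_le (hle P1 r₁ hr1 h₁) (hle P2 r₂ hr2 h₂))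
  haveI := hP.1.1
  have hht : P.height = 1 := GrothLib.CanonMod.height_eq_one_of_split hS P1 P2
    (Set.union_diff_cancel hs1) Set.disjoint_sdiff_right (mk P1) (mk P2) (hmk P1 hs1) (hmk P2 Set.sdiff_subset) P hP
  obtain ⟨p, hp, hpP⟩ := exists_le_of_iInf_ker_le P1 hs1 (mk P1) (hmk P1 hs1) P (le_sup_left.trans hP.1.2)
  obtain ⟨q, hq, hqP⟩ := exists_le_of_iInf_ker_le P2 Set.sdiff_subset (mk P2) (hmk P2 Set.sdiff_subset) P
    (le_sup_right.trans hP.1.2)
  have hcov : ∀ (p : Ideal A) (hp : p ∈ minimalPrimes A), p ≤ P →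
      haveI := hp.1.1; deg hω P = deg hω p + 1 := by
    intro p hp hpP
    haveI := hp.1.1
    have hlt : p < P := lt_of_le_of_ne hpP fun he => by
      have h0 := Ideal.height_eq_zero_iff.2 hp
      rw [he, hht] at h0
      exact one_ne_zero h0
    refine degS_covBy hω (x := ⟨p, inferInstance⟩) (y := ⟨P, inferInstance⟩) ⟨hlt, fun z hpz hzP => ?_⟩
    have h1 := Ideal.height_strict_mono_of_isPrime (I := z.asIdeal) (J := P) hzP
    rw [hht, ENat.lt_one_iff_eq_zero, Ideal.height_eq_zero_iff] at h1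
    exact (hpz.not_ge (h1.2 ⟨hp.1.1, bot_le⟩ hpz.le)).elim
  obtain ⟨hpm, hpd⟩ := hp
  haveI := hq.1.1.1
  haveI := hpm.1.1
  have e1 := hcov p hpm hpP
  have e2 := hcov q hq.1 hqP
  exact hq.2 ⟨hq.1, by omega⟩

include hω in
theorem deg_minimal_of_hasSk_two (hn : Dual.IsNormalized A ω) (hS : LocCoh.HasSk 2 A A) (n : ℕ)
    (hd : ringKrullDim A = n) (r : Ideal A) [r.IsPrime] (hr : r ∈ minimalPrimes A) : deg hω r = -(n : ℤ) := by
  have hle : ∀ p : PrimeSpectrum A, deg hω r ≤ deg hω p.asIdeal := fun p => by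
    obtain ⟨q, hq, hqp⟩ := Ideal.exists_minimalPrimes_le (show (⊥ : Ideal A) ≤ p.asIdeal from bot_le)
    haveI := hq.1.1
    rw [deg_minimal_eq_of_hasSk_two hω hS r q hr hq]
    have h := (degS_strictMono hω).monotone (show (⟨q, inferInstance⟩ : PrimeSpectrum A) ≤ p from hqp)
    simp only [degS] at h
    exact h
  have h0 := deg_nonpos hω hn r
  have h1 : (-deg hω r).toNat ≤ n := by
    have h := ringKrullDim_quotient_le (R := A) r
    rw [ringKrullDim_quotient_eq hω hn r, hd] at h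
    exact_mod_cast h
  have h2 : ringKrullDim A ≤ (((-deg hω r).toNat : ℕ) : WithBot ℕ∞) := by
    refine iSup_le fun l => ?_
    have h3 : (l.length : ℕ∞) ≤ Order.coheight l.head := Order.length_le_coheight le_rfl
    rw [coheight_eq hω, show degS hω (IsLocalRing.closedPoint A) = 0 from deg_maximal hω hn, zero_sub] at h3
    have h4 : l.length ≤ (-deg hω l.head.asIdeal).toNat := Nat.cast_le.1 h3
    have := hle l.head
    exact le_trans (WithBot.coe_le_coe.2 (Nat.cast_le.2 (show l.length ≤ (-deg hω r).toNat by omega))) le_rfl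
  rw [hd] at h2
  have h2' : n ≤ (-deg hω r).toNat := by exact_mod_cast h2
  omega

end GrothLib.SkExt
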